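import Groth.Agent.HomArtinRees.Stalk

/-!
# Deligne's pro-isomorphism between `H^p(I^n F)` and `I^n H^p(F)`
-/

set_option autoImplicit false

universe u

open CategoryTheory Limits AlgebraicGeometry

noncomputable section

namespace Groth.Agent.HomArtinRees

open Groth.Agent.CohDev

variable {X : Scheme.{u}} [IsNoetherian X] (I : X.IdealSheafData)

theorem exists_trans {m n : ℕ} (h : n ≤ m) (G : X.Modules) :
    ∃ t : (Dual3.idealMul (I ^ m)).obj G ⟶ (Dual3.idealMul (I ^ n)).obj G,
      t ≫ Dual3.idealMulι (I ^ n) G = Dual3.idealMulι (I ^ m) G := by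
  have hle : I ^ m ≤ I ^ n := by
    intro W
    rw [Scheme.IdealSheafData.ideal_pow, Scheme.IdealSheafData.ideal_pow, Pi.pow_apply, Pi.pow_apply]
    exact Ideal.pow_le_pow_right h
  exact ⟨kernel.lift _ _ (idealMulι_comp_eq_zero _ _
    (killed_mono_ideal hle (CohOps.Deligne.killed_push_pull _ _))), kernel.lift_ι _ _ _⟩

variable (F : CochainComplex X.Modules ℤ)

theorem cyclesMap_deligneι_i (n : ℕ) (p : ℤ) :
    HomologicalComplex.cyclesMap (Dual3.deligneι I n F) p ≫ F.iCycles p =
      ((Dual3.deligne I n).obj F).iCycles p ≫ Dual3.idealMulι (I ^ n) (F.X p) :=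
  HomologicalComplex.cyclesMap_i _ _

theorem exists_cycles_lift (n : ℕ) (p : ℤ) :
    ∃ β : (Dual3.idealMul (I ^ n)).obj (F.cycles p) ⟶ ((Dual3.deligne I n).obj F).cycles p,
      β ≫ HomologicalComplex.cyclesMap (Dual3.deligneι I n F) p = Dual3.idealMulι (I ^ n) (F.cycles p) := by
  refine ⟨((Dual3.deligne I n).obj F).liftCycles ((Dual3.idealMul (I ^ n)).map (F.iCycles p)) (p + 1)
    (CochainComplex.next ℤ p) ?_, ?_⟩
  · exact ((Dual3.idealMul (I ^ n)).map_comp _ _).symm.trans
      ((congrArg (Dual3.idealMul (I ^ n)).map (HomologicalComplex.iCycles_d _ _ _)).trans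
        ((Dual3.idealMul (I ^ n)).map_zero _ _))
  · rw [← cancel_mono (F.iCycles p), Category.assoc, cyclesMap_deligneι_i]
    exact (Category.assoc _ _ _).symm.trans
      ((congrArg (· ≫ Dual3.idealMulι (I ^ n) (F.X p)) (HomologicalComplex.liftCycles_i _ _ _ _ _)).trans
        (Dual3.idealMul_map_ι _ _))

theorem main (hFc : ∀ q : ℤ, Coh.IsCoh (F.X q)) (p : ℤ) :
    ∃ (c : ℕ) (φ : ∀ n : ℕ, ((Dual3.deligne I n).obj F).homology p ⟶ (Dual3.idealMul (I ^ (n - c))).obj (F.homology p))
      (ψ : ∀ n : ℕ, (Dual3.idealMul (I ^ n)).obj (F.homology p) ⟶ ((Dual3.deligne I (n - c)).obj F).homology p),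
      0 < c ∧
      (∀ n : ℕ, c ≤ n → φ n ≫ Dual3.idealMulι (I ^ (n - c)) (F.homology p) =
        HomologicalComplex.homologyMap (Dual3.deligneι I n F) p) ∧
      (∀ n : ℕ, c ≤ n → ψ n ≫ HomologicalComplex.homologyMap (Dual3.deligneι I (n - c) F) p =
        Dual3.idealMulι (I ^ n) (F.homology p)) ∧
      (∀ n : ℕ, 2 * c ≤ n → (ψ n ≫ φ (n - c)) ≫ Dual3.idealMulι (I ^ (n - c - c)) (F.homology p) =
        Dual3.idealMulι (I ^ n) (F.homology p)) ∧
      ∀ (n : ℕ), 2 * c ≤ n → ∀ t : (Dual3.deligne I n).obj F ⟶ (Dual3.deligne I (n - c - c)).obj F,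
        t ≫ Dual3.deligneι I (n - c - c) F = Dual3.deligneι I n F →
        φ n ≫ ψ (n - c) = HomologicalComplex.homologyMap t p := by
  classical
  have hZ : Coh.IsCoh (F.cycles p) := by
    have e : kernel (F.d p (p + 1)) ≅ F.cycles p :=
      (limit.isLimit _).conePointUniqueUpToIso (F.cyclesIsKernel p (p + 1) (CochainComplex.next ℤ p))
    exact isCoh_of_iso e (isCoh_kernel _ (hFc p) (hFc (p + 1)).1)
  let zB := kernel.ι (F.homologyπ p)
  have hB : Coh.IsCoh (kernel (F.homologyπ p)) := by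
    refine isCoh_kernel _ hZ ?_
    have e : cokernel (F.toCycles (p - 1) p) ≅ F.homology p :=
      (colimit.isColimit _).coconePointUniqueUpToIso (F.homologyIsCokernel (p - 1) p (CochainComplex.prev ℤ p))
    exact (isCoh_of_iso e (isCoh_cokernel _ (hFc (p - 1)).1 hZ)).1
  let l : F.X (p - 1) ⟶ kernel (F.homologyπ p) := kernel.lift _ (F.toCycles (p - 1) p) (F.toCycles_comp_homologyπ _ _)
  have hl : Epi l :=
    (ShortComplex.exact_of_g_is_cokernel
      (ShortComplex.mk (F.toCycles (p - 1) p) (F.homologyπ p) (F.toCycles_comp_homologyπ _ _))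
      (F.homologyIsCokernel (p - 1) p (CochainComplex.prev ℤ p))).epi_kernelLift
  obtain ⟨c₁, hc₁⟩ := exists_artinRees I (F.iCycles p) hZ (hFc p)
  obtain ⟨c₂, hc₂⟩ := exists_artinRees I zB hB hZ
  let c := max c₁ c₂ + 1
  let u : ∀ n, ((Dual3.deligne I n).obj F).cycles p ⟶ F.cycles p := fun n =>
    HomologicalComplex.cyclesMap (Dual3.deligneι I n F) p
  have hu : ∀ n, Mono (u n) := fun n => by
    have h1 : Mono (((Dual3.deligne I n).obj F).iCycles p ≫ Dual3.idealMulι (I ^ n) (F.X p)) :=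
      @mono_comp _ _ _ _ _ _ inferInstance _ (Dual3.mono_idealMulι (I ^ n) (F.X p))
    have : Mono (u n ≫ F.iCycles p) := by rw [cyclesMap_deligneι_i]; exact h1
    exact mono_of_mono (u n) (F.iCycles p)
  choose β hβ using fun n => exists_cycles_lift I F n p
  -- `φ`
  have hφ : ∀ n, c ≤ n → ∃ α : ((Dual3.deligne I n).obj F).cycles p ⟶ (Dual3.idealMul (I ^ (n - c))).obj (F.cycles p),
      α ≫ Dual3.idealMulι (I ^ (n - c)) (F.cycles p) = u n := fun n hn =>
    hc₁ n (by omega) (u n) (((Dual3.deligne I n).obj F).iCycles p) (cyclesMap_deligneι_i I F n p).symm (n - c) (by omega)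
  choose α hα using hφ
  have hπ : ∀ n (hn : c ≤ n), α n hn ≫ (Dual3.idealMul (I ^ (n - c))).map (F.homologyπ p) ≫
      Dual3.idealMulι (I ^ (n - c)) (F.homology p) = u n ≫ F.homologyπ p := fun n hn => by
    rw [Dual3.idealMul_map_ι, ← Category.assoc, hα]
  have hφ₀ : ∀ n (hn : c ≤ n), ((Dual3.deligne I n).obj F).toCycles (p - 1) p ≫
      α n hn ≫ (Dual3.idealMul (I ^ (n - c))).map (F.homologyπ p) = 0 := fun n hn => by
    rw [← cancel_mono (Dual3.idealMulι (I ^ (n - c)) (F.homology p)), zero_comp, Category.assoc, Category.assoc,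
      hπ n hn, show u n ≫ F.homologyπ p = ((Dual3.deligne I n).obj F).homologyπ p ≫
        HomologicalComplex.homologyMap (Dual3.deligneι I n F) p from (HomologicalComplex.homologyπ_naturality _ _).symm,
      ← Category.assoc, HomologicalComplex.toCycles_comp_homologyπ, zero_comp]
  let φ : ∀ n : ℕ, ((Dual3.deligne I n).obj F).homology p ⟶ (Dual3.idealMul (I ^ (n - c))).obj (F.homology p) :=
    fun n => if hn : c ≤ n then
      (((Dual3.deligne I n).obj F).homologyIsCokernel (p - 1) p (CochainComplex.prev ℤ p)).desc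
        (CokernelCofork.ofπ (α n hn ≫ (Dual3.idealMul (I ^ (n - c))).map (F.homologyπ p)) (hφ₀ n hn))
      else 0
  have hφπ : ∀ n (hn : c ≤ n), ((Dual3.deligne I n).obj F).homologyπ p ≫ φ n =
      α n hn ≫ (Dual3.idealMul (I ^ (n - c))).map (F.homologyπ p) := fun n hn => by
    simp only [φ, dif_pos hn]
    exact Cofork.IsColimit.π_desc (((Dual3.deligne I n).obj F).homologyIsCokernel (p - 1) p (CochainComplex.prev ℤ p))
  -- `ψ`
  have hψ : ∀ n, c ≤ n → ∃ γ : (Dual3.idealMul (I ^ n)).obj (F.homology p) ⟶ ((Dual3.deligne I (n - c)).obj F).homology p,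
      ∀ τ : (Dual3.idealMul (I ^ n)).obj (F.cycles p) ⟶ (Dual3.idealMul (I ^ (n - c))).obj (F.cycles p),
        τ ≫ Dual3.idealMulι (I ^ (n - c)) (F.cycles p) = Dual3.idealMulι (I ^ n) (F.cycles p) →
        (Dual3.idealMul (I ^ n)).map (F.homologyπ p) ≫ γ =
          τ ≫ β (n - c) ≫ ((Dual3.deligne I (n - c)).obj F).homologyπ p := fun n hn => by
    have := epi_idealMul_map (I ^ n) (F.homologyπ p)
    obtain ⟨τ₀, hτ₀⟩ := exists_trans I (Nat.sub_le n c) (F.cycles p)
    have h0 : kernel.ι ((Dual3.idealMul (I ^ n)).map (F.homologyπ p)) ≫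
        τ₀ ≫ β (n - c) ≫ ((Dual3.deligne I (n - c)).obj F).homologyπ p = 0 := by
      let k := kernel.ι ((Dual3.idealMul (I ^ n)).map (F.homologyπ p))
      have hk : (k ≫ Dual3.idealMulι (I ^ n) (F.cycles p)) ≫ F.homologyπ p = 0 := by
        rw [Category.assoc, ← Dual3.idealMul_map_ι, ← Category.assoc, kernel.condition, zero_comp]
      obtain ⟨w, hw⟩ := hc₂ n (by omega) (kernel.lift _ _ hk) k (kernel.lift_ι _ _ hk).symm (n - c) (by omega)
      have e : k ≫ τ₀ = w ≫ (Dual3.idealMul (I ^ (n - c))).map zB := by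
        rw [← cancel_mono (Dual3.idealMulι (I ^ (n - c)) (F.cycles p)), Category.assoc, hτ₀, Category.assoc,
          Dual3.idealMul_map_ι, ← Category.assoc, hw, kernel.lift_ι]
      change k ≫ τ₀ ≫ β (n - c) ≫ _ = 0
      rw [← Category.assoc, e, Category.assoc]
      have : Epi ((Dual3.idealMul (I ^ (n - c))).map l) := @epi_idealMul_map X _ (I ^ (n - c)) _ _ l hl
      have e0 : (Dual3.idealMul (I ^ (n - c))).map zB ≫ β (n - c) ≫
          ((Dual3.deligne I (n - c)).obj F).homologyπ p = 0 := by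
        rw [← cancel_epi ((Dual3.idealMul (I ^ (n - c))).map l), comp_zero, ← Category.assoc, ← Functor.map_comp,
          kernel.lift_ι, ← Category.assoc]
        have e1 : (Dual3.idealMul (I ^ (n - c))).map (F.toCycles (p - 1) p) ≫ β (n - c) =
            ((Dual3.deligne I (n - c)).obj F).toCycles (p - 1) p := by
          have := hu (n - c)
          refine (cancel_mono (u (n - c))).1 ((Category.assoc _ _ _).trans ?_)
          rw [hβ]
          refine (cancel_mono (F.iCycles p)).1 ?_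
          have r : (((Dual3.deligne I (n - c)).obj F).toCycles (p - 1) p ≫ u (n - c)) ≫ F.iCycles p =
              (Dual3.idealMul (I ^ (n - c))).map (F.d (p - 1) p) ≫ Dual3.idealMulι (I ^ (n - c)) (F.X p) := by
            refine (Category.assoc _ _ _).trans ((congrArg (_ ≫ ·) (cyclesMap_deligneι_i I F (n - c) p)).trans
              ((Category.assoc _ _ _).symm.trans (congrArg (· ≫ _) ?_)))
            exact HomologicalComplex.toCycles_i _ _ _
          refine Eq.trans ?_ r.symm
          rw [Dual3.idealMul_map_ι, Dual3.idealMul_map_ι, Category.assoc, HomologicalComplex.toCycles_i]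
        exact (congrArg (· ≫ _) e1).trans (HomologicalComplex.toCycles_comp_homologyπ _ _ _)
      rw [e0, comp_zero]
    refine ⟨Abelian.epiDesc _ _ h0, fun τ hτ => ?_⟩
    rw [Abelian.comp_epiDesc, show τ = τ₀ from (cancel_mono (Dual3.idealMulι (I ^ (n - c)) (F.cycles p))).1 (hτ.trans hτ₀.symm)]
  choose γ hγ using hψ
  let ψ : ∀ n : ℕ, (Dual3.idealMul (I ^ n)).obj (F.homology p) ⟶ ((Dual3.deligne I (n - c)).obj F).homology p :=
    fun n => if hn : c ≤ n then γ n hn else 0
  have h2 : ∀ n : ℕ, c ≤ n → φ n ≫ Dual3.idealMulι (I ^ (n - c)) (F.homology p) =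
      HomologicalComplex.homologyMap (Dual3.deligneι I n F) p := fun n hn => by
    rw [← cancel_epi (((Dual3.deligne I n).obj F).homologyπ p), ← Category.assoc, hφπ n hn, Category.assoc, hπ n hn,
      HomologicalComplex.homologyπ_naturality]
  have h3 : ∀ n : ℕ, c ≤ n → ψ n ≫ HomologicalComplex.homologyMap (Dual3.deligneι I (n - c) F) p =
      Dual3.idealMulι (I ^ n) (F.homology p) := fun n hn => by
    have := epi_idealMul_map (I ^ n) (F.homologyπ p)
    obtain ⟨τ, hτ⟩ := exists_trans I (Nat.sub_le n c) (F.cycles p)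
    simp only [ψ, dif_pos hn]
    rw [← cancel_epi ((Dual3.idealMul (I ^ n)).map (F.homologyπ p)), ← Category.assoc, hγ n hn τ hτ,
      Category.assoc, Category.assoc, HomologicalComplex.homologyπ_naturality, Dual3.idealMul_map_ι,
      ← Category.assoc (β (n - c)), hβ, ← Category.assoc, hτ]
  refine ⟨c, φ, ψ, by omega, h2, h3, fun n hn => ?_, fun n hn t ht => ?_⟩
  · rw [Category.assoc, h2 (n - c) (by omega), h3 n (by omega)]
  · have hn1 : c ≤ n := by omega
    have hn2 : c ≤ n - c := by omega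
    obtain ⟨τ, hτ⟩ := exists_trans I (Nat.sub_le (n - c) c) (F.cycles p)
    simp only [ψ, dif_pos hn2]
    rw [← cancel_epi (((Dual3.deligne I n).obj F).homologyπ p), HomologicalComplex.homologyπ_naturality,
      ← Category.assoc, hφπ n hn1, Category.assoc, hγ (n - c) hn2 τ hτ, ← Category.assoc, ← Category.assoc]
    refine congrArg (· ≫ _) ?_
    have := hu (n - c - c)
    rw [← cancel_mono (u (n - c - c)), Category.assoc, hβ, Category.assoc, hτ, hα n hn1,
      ← HomologicalComplex.cyclesMap_comp, ht]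

end Groth.Agent.HomArtinRees
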