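import Groth.Agent.CohOps.Deligne
import Groth.Agent.CohDev.AR

/-!
# Stalks of `J · G`
-/

set_option autoImplicit false

universe u

open CategoryTheory Limits AlgebraicGeometry Opposite TopologicalSpace
open scoped Pointwise

noncomputable section

namespace Groth.Agent.HomArtinRees

open Groth.Agent.CohDev Groth.Agent.PullStalk.Sky Groth.Agent.PullStalk.Exact

variable {X : Scheme.{u}}

theorem eq_zero_of_stalkLin {M N : X.Modules} (f : M ⟶ N) (h : ∀ y t, stalkLin f y t = 0) : f = 0 :=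
  Scheme.Modules.hom_ext _ _ fun U => by
    ext m
    refine TopCat.Presheaf.section_ext (F := ⟨N.presheaf, N.isSheaf⟩) U _ _ fun y hy => ?_
    refine (stalkLin_germ f U y hy m).symm.trans ((h y _).trans ?_)
    exact (map_zero (N.presheaf.germ U y hy).hom).symm

theorem epi_of_stalkLin {M N : X.Modules} (f : M ⟶ N) (h : ∀ y, Function.Surjective (stalkLin f y)) :
    Epi f := by
  refine Preadditive.epi_of_cancel_zero _ fun {P} g hg => eq_zero_of_stalkLin g fun y t => ?_
  obtain ⟨s, rfl⟩ := h y t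
  rw [← stalkLin_comp_apply, hg]
  obtain ⟨W, hW, m, rfl⟩ := exists_germM_eq M y s
  exact (stalkLin_germ (0 : M ⟶ P) W y hW m).trans (map_zero (P.presheaf.germ W y hW).hom)

theorem stalkLin_zero_apply {M N : X.Modules} (y : X) (t : M.presheaf.stalk y) :
    stalkLin (0 : M ⟶ N) y t = 0 := by
  obtain ⟨W, hW, m, rfl⟩ := exists_germM_eq M y t
  exact (stalkLin_germ (0 : M ⟶ N) W y hW m).trans (map_zero (N.presheaf.germ W y hW).hom)

variable [IsNoetherian X]

/-- `J · G_y`. -/
abbrev smulStalk (J : X.IdealSheafData) (G : X.Modules) {W : X.Opens} (hW : IsAffineOpen W) {y : X}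
    (hy : y ∈ W) : Submodule (X.presheaf.stalk y) (G.presheaf.stalk y) :=
  ((J.ideal ⟨W, hW⟩).map (X.presheaf.germ W y hy).hom) • ⊤

theorem stalkLin_smul_eq_zero (J : X.IdealSheafData) {Q : X.Modules} (hk : Killed J Q) {W : X.Opens}
    (hW : IsAffineOpen W) {y : X} (hy : y ∈ W) {a : Γ(X, W)} (ha : a ∈ J.ideal ⟨W, hW⟩)
    (t : Q.presheaf.stalk y) : X.presheaf.germ W y hy a • t = 0 := by
  obtain ⟨U, hyU, m, rfl⟩ := exists_germM_eq Q y t
  obtain ⟨V, hV, hyV, hVU⟩ := exists_isAffineOpen_mem_and_subset hyU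
  have e : germM Q V y hyV (QCoh.res Q hVU m) = germM Q U y hyU m := Q.presheaf.germ_res_apply _ y hyV m
  rw [← e]
  exact germ_mem_killFam (V := ⟨V, hV⟩) (fun b hb => hk ⟨V, hV⟩ b hb _) hyV ⟨W, hW⟩ hy a ha

theorem mem_range_idealMulι (J : X.IdealSheafData) (G : X.Modules) {W : X.Opens} (hW : IsAffineOpen W)
    {y : X} (hy : y ∈ W) (t : G.presheaf.stalk y) :
    t ∈ LinearMap.range (stalkLin (Dual3.idealMulι J G) y) ↔ t ∈ smulStalk J G hW hy := by
  let η := (Scheme.Modules.pullbackPushforwardAdjunction J.subschemeι).unit.app G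
  have hι : Dual3.idealMulι J G ≫ η = 0 := kernel.condition _
  constructor
  · rintro ⟨s, rfl⟩
    refine mem_smul_of_unit_eq_zero J G hW hy _ ?_
    rw [← stalkLin_comp_apply, hι, stalkLin_zero_apply]
  · intro ht
    have h0 : stalkLin η y t = 0 := by
      refine Submodule.smul_induction_on ht (fun c hc n _ => ?_) (fun a b ha hb => by rw [map_add, ha, hb, add_zero])
      induction hc using Submodule.span_induction generalizing n with
      | mem c hc =>
        obtain ⟨a, ha, rfl⟩ := hc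
        rw [map_smul]
        exact stalkLin_smul_eq_zero J (CohOps.Deligne.killed_push_pull J _) hW hy ha _
      | zero => rw [zero_smul, map_zero]
      | add b c _ _ hb hc => rw [add_smul, map_add, hb n trivial, hc n trivial, add_zero]
      | smul d b _ hb => rw [smul_eq_mul, mul_comm, mul_smul]; exact hb (d • n) trivial
    have hc : Dual3.idealMulι J G ≫ Abelian.coimage.π η = 0 := cokernel.condition _
    have hS : (ShortComplex.mk _ _ hc).ShortExact :=
      { exact := ShortComplex.exact_cokernel _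
        mono_f := inferInstanceAs (Mono (kernel.ι η))
        epi_g := inferInstanceAs (Epi (cokernel.π (kernel.ι η))) }
    have h1 : stalkLin (Abelian.coimage.π η) y t = 0 := by
      refine stalk_injective (Abelian.factorThruCoimage η) y ?_
      rw [← stalkLin_comp_apply, Abelian.coimage.fac, h0, map_zero]
    exact ((stalk_exact hS y).2.1 t).1 h1

/-- `J ·` preserves epimorphisms. -/
theorem epi_idealMul_map (J : X.IdealSheafData) {G H : X.Modules} (q : G ⟶ H) [Epi q] :
    Epi ((Dual3.idealMul J).map q) := by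
  refine epi_of_stalkLin _ fun y v => ?_
  obtain ⟨W, hW, hy, -⟩ := exists_isAffineOpen_mem_and_subset (X := X) (Opens.mem_top y)
  have hv : stalkLin (Dual3.idealMulι J H) y v ∈ smulStalk J H hW hy :=
    (mem_range_idealMulι J H hW hy _).1 ⟨v, rfl⟩
  have he : smulStalk J H hW hy = (smulStalk J G hW hy).map (stalkLin q y) := by
    rw [Submodule.map_smul'', Submodule.map_top, LinearMap.range_eq_top.2 (stalk_surjective q y)]
  rw [he] at hv
  obtain ⟨w, hw, e⟩ := hv
  obtain ⟨z, rfl⟩ := (mem_range_idealMulι J G hW hy w).2 hw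
  refine ⟨z, stalk_injective (Dual3.idealMulι J H) y ?_⟩
  rw [← stalkLin_comp_apply, Dual3.idealMul_map_ι, stalkLin_comp_apply, e]

/-- Artin–Rees for a submodule of a coherent module. -/
theorem exists_artinRees (I : X.IdealSheafData) {A G : X.Modules} (f : A ⟶ G) [Mono f]
    (hA : Coh.IsCoh A) (hG : Coh.IsCoh G) :
    ∃ c : ℕ, ∀ n, c ≤ n → ∀ {T : X.Modules} (u : T ⟶ A) (v : T ⟶ (Dual3.idealMul (I ^ n)).obj G),
      v ≫ Dual3.idealMulι (I ^ n) G = u ≫ f →
      ∀ d, d + c ≤ n → ∃ w : T ⟶ (Dual3.idealMul (I ^ d)).obj A, w ≫ Dual3.idealMulι (I ^ d) A = u := by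
  haveI : G.IsQuasicoherent := hG.1
  haveI : A.IsQuasicoherent := hA.1
  obtain ⟨σ, hσ⟩ := isCompact_univ.elim_finite_subcover
    (fun W : X.affineOpens => ((W : X.Opens) : Set X)) (fun W => (W : X.Opens).isOpen) fun x _ => by
      obtain ⟨W, hW, hx, -⟩ := exists_isAffineOpen_mem_and_subset (X := X) (Opens.mem_top x)
      exact Set.mem_iUnion.mpr ⟨⟨W, hW⟩, hx⟩
  have hAR : ∀ W : X.affineOpens, ∃ k : ℕ, ∀ n ≥ k,
      (I.ideal W) ^ n • (⊤ : Submodule Γ(X, W.1) Γ(G, W.1)) ⊓ LinearMap.range (appLin f W.1) ≤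
        ((I.ideal W) ^ (n - k) • ⊤ : Submodule Γ(X, W.1) Γ(A, W.1)).map (appLin f W.1) := by
    intro W
    have := IsLocallyNoetherian.component_noetherian W
    have := finite_sections hG W.2
    obtain ⟨k, hk⟩ := (I.ideal W).exists_pow_inf_eq_pow_smul (LinearMap.range (appLin f W.1))
    refine ⟨k, fun n hn => ?_⟩
    rw [hk n hn, Submodule.map_smul'', Submodule.map_top]
    exact Submodule.smul_mono le_rfl inf_le_right
  choose k hk using hAR
  refine ⟨σ.sup k, fun n _ T u v huv d hd => ?_⟩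
  let η := (Scheme.Modules.pullbackPushforwardAdjunction (I ^ d).subschemeι).unit.app A
  have hu : u ≫ η = 0 := eq_zero_of_stalkLin _ fun y s => by
    obtain ⟨W, hW⟩ := Set.mem_iUnion.mp (hσ (Set.mem_univ y))
    obtain ⟨hWσ, hyW⟩ := Set.mem_iUnion.mp hW
    have hW' : k W ≤ σ.sup k := Finset.le_sup hWσ
    rw [stalkLin_comp_apply]
    suffices hmem : stalkLin u y s ∈ smulStalk (I ^ d) A W.2 hyW by
      obtain ⟨z, hz⟩ := (mem_range_idealMulι _ A W.2 hyW _).2 hmem
      rw [← hz, ← stalkLin_comp_apply, show Dual3.idealMulι (I ^ d) A ≫ η = 0 from kernel.condition _,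
        stalkLin_zero_apply]
    have h1 : stalkLin f y (stalkLin u y s) ∈ smulStalk (I ^ n) G W.2 hyW :=
      (mem_range_idealMulι _ G W.2 hyW _).1 ⟨stalkLin v y s, by
        rw [← stalkLin_comp_apply, huv, stalkLin_comp_apply]⟩
    generalize stalkLin u y s = t at h1 ⊢
    obtain ⟨m, s₀, hm, hs₀, hst⟩ := exists_smul_mem_of_mem W.2 hyW _ h1
    obtain ⟨a, s₁, hs₁, ha⟩ := CycLib.exists_smul_germ_eq A W.2 hyW t
    have hfu : X.presheaf.germ W.1 y hyW s₁ • stalkLin f y t =
        germM G W.1 y hyW (appLin f W.1 a) := by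
      rw [← map_smul, ha, stalkLin_germ]
      rfl
    have hz : germM G W.1 y hyW (s₁ • m - s₀ • appLin f W.1 a) = 0 := by
      rw [show germM G W.1 y hyW (s₁ • m - s₀ • appLin f W.1 a) =
        germM G W.1 y hyW (s₁ • m) - germM G W.1 y hyW (s₀ • appLin f W.1 a) from
        map_sub (G.presheaf.germ W.1 y hyW).hom _ _, germM_smul, germM_smul, ← hst, ← hfu, smul_comm,
        sub_self]
    obtain ⟨s₂, hs₂, hz₂⟩ := CycLib.exists_smul_eq_zero_of_germ_eq_zero G W.2 hyW _ hz
    rw [smul_sub, sub_eq_zero] at hz₂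
    have hinf : s₂ • s₁ • m ∈ (I.ideal W) ^ n • (⊤ : Submodule Γ(X, W.1) Γ(G, W.1)) ⊓
        LinearMap.range (appLin f W.1) := by
      refine ⟨Submodule.smul_mem _ _ (Submodule.smul_mem _ _ ?_), hz₂ ▸ ⟨s₂ • s₀ • a, by simp⟩⟩
      simpa [Scheme.IdealSheafData.ideal_pow] using hm
    obtain ⟨b, hb, hbe⟩ := hk W n (by omega) hinf
    have hb' : b ∈ ((I ^ d).ideal W) • (⊤ : Submodule Γ(X, W.1) Γ(A, W.1)) := by
      rw [Scheme.IdealSheafData.ideal_pow, Pi.pow_apply]
      exact Submodule.smul_mono (Ideal.pow_le_pow_right (by omega)) le_rfl hb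
    have hg : germM A W.1 y hyW b ∈ smulStalk (I ^ d) A W.2 hyW := by
      refine Submodule.smul_induction_on hb' (fun r hr x _ => ?_) (fun x x' hx hx' => ?_)
      · rw [germM_smul]
        exact Submodule.smul_mem_smul (Ideal.mem_map_of_mem _ hr) trivial
      · rw [show germM A W.1 y hyW (x + x') = germM A W.1 y hyW x + germM A W.1 y hyW x' from
          map_add (A.presheaf.germ W.1 y hyW).hom _ _]
        exact add_mem hx hx'
    have key : (X.presheaf.germ W.1 y hyW s₂ * X.presheaf.germ W.1 y hyW s₁ * X.presheaf.germ W.1 y hyW s₀) • t =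
        germM A W.1 y hyW b := by
      refine stalk_injective f y ?_
      rw [map_smul, stalkLin_germ, show f.app W.1 b = s₂ • s₁ • m from hbe, mul_smul, mul_smul, hst,
        ← germM_smul, ← germM_smul]
    refine (Submodule.smul_mem_iff_of_isUnit _ ((hs₂.mul hs₁).mul hs₀)).1 ?_
    rw [key]
    exact hg
  exact ⟨kernel.lift η u hu, kernel.lift_ι _ _ _⟩

end Groth.Agent.HomArtinRees
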